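import Cfsg.Agent.Helper16.Brauer43.L3Defs
import Cfsg.Agent.Helper25.NPCSimple
import Cfsg.Agent.Helper3.ColumnOrth

/-!
# Brauer 1943, layer L3, piece (GL4) (helper47 for helper16, board #7095)

`∑_{ψ ∈ Y} ψ(x) = -δ` for `1 ≠ x ∈ P`, from column orthogonality of the columns `1` and `x`.
Also the two one-line facts (GL1)/(GL2) under fresh names, used here and in (GL5).
-/

set_option autoImplicit false
set_option linter.unusedSectionVars false
set_option linter.style.haveILetI false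

namespace Cfsg.Agent.Helper47.B43

open Cfsg Cfsg.Agent.Helper16 Cfsg.Agent.Helper16.DefOne Cfsg.Agent.Helper82.DefOne
  Cfsg.Agent.Helper77.DefOne Cfsg.Agent.Helper16.Brauer43
open scoped ComplexConjugate

universe u

variable {G : Type u} [Group G] [Fintype G] {p : ℕ} [Fact p.Prime] (P : Sylow p G)
  [Fintype (P : Subgroup G)] (D : L0Data P)

theorem one_reg47 : ¬ p ∣ orderOf (1 : G) := by
  rw [orderOf_one]
  exact (Fact.out : p.Prime).not_dvd_one

theorem delta_ne_zero47 : (D.δ : ℂ) ≠ 0 := by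
  rcases D.hδ with h | h <;> rw [h] <;> norm_num

/-- all members of `Y` have the same value at `1` -/
theorem Y_one_eq47 (ψ ψ' : IrrCharacter G) (hψ : ψ ∈ D.Y) (hψ' : ψ' ∈ D.Y) :
    (ψ : G → ℂ) 1 = (ψ' : G → ℂ) 1 := by
  have h1 := D.hrel ψ hψ 1 one_reg47
  have h2 := D.hrel ψ' hψ' 1 one_reg47
  apply mul_left_cancel₀ (delta_ne_zero47 P D)
  rw [h1, h2]

/-- `Y` is not empty -/
theorem Y_nonempty47 (hP : Nat.card P = p) : D.Y.Nonempty := by
  have hp : p.Prime := Fact.out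
  have hedvd : (cen P).relIndex (nor P) ∣ p - 1 := Helper82.DefOne.relIndex_cen_nor_dvd P hP
  have hp1 : 0 < p - 1 := by
    have := hp.two_le
    omega
  have hpos : 0 < Nat.card D.Y := by
    rw [D.hcY]
    exact Nat.div_pos (Nat.le_of_dvd hp1 hedvd) (Nat.pos_of_dvd_of_pos hedvd hp1)
  rw [Nat.card_pos_iff] at hpos
  obtain ⟨⟨ψ, hψ⟩⟩ := hpos.1
  exact ⟨ψ, hψ⟩

/-- (GL4) -/
theorem sum_Y_apply (hP : Nat.card P = p) (hC : cen P = (P : Subgroup G)) (x : G)
    (hx : x ∈ (P : Subgroup G)) (hx1 : x ≠ 1) :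
    ∑ᶠ ψ ∈ D.Y, (ψ : G → ℂ) x = -(D.δ : ℂ) := by
  classical
  haveI : Fintype (IrrCharacter G) := Fintype.ofFinite _
  have hXfin : D.X.Finite := Set.toFinite _
  have hYfin : D.Y.Finite := Set.toFinite _
  obtain ⟨ψ₀, hψ₀⟩ := Y_nonempty47 P D hP
  -- column orthogonality
  have hnc : ¬ IsConj (1 : G) x := by
    intro h
    rw [isConj_one_right] at h
    exact hx1 h
  have hco := Helper3.column_orthogonality (1 : G) x
  rw [if_neg hnc] at hco
  have hdisjf : Disjoint hXfin.toFinset hYfin.toFinset := by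
    rw [Finset.disjoint_left]
    intro χ h1 h2
    exact Set.disjoint_left.mp D.hdisj (hXfin.mem_toFinset.mp h1) (hYfin.mem_toFinset.mp h2)
  rw [← Finset.sum_sdiff (Finset.subset_univ (hXfin.toFinset ∪ hYfin.toFinset)),
    Finset.sum_union hdisjf] at hco
  -- the rest vanishes
  have hZ0 : ∑ χ ∈ Finset.univ \ (hXfin.toFinset ∪ hYfin.toFinset),
      (χ : G → ℂ) 1 * conj ((χ : G → ℂ) x) = 0 := by
    apply Finset.sum_eq_zero
    intro χ hχ
    rw [Finset.mem_sdiff, Finset.mem_union, not_or] at hχ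
    have hχX : χ ∉ D.X := fun h => hχ.2.1 (hXfin.mem_toFinset.mpr h)
    have hχY : χ ∉ D.Y := fun h => hχ.2.2 (hYfin.mem_toFinset.mpr h)
    rw [D.hZ χ hχX hχY x hx hx1, map_zero, mul_zero]
  -- the `X` part
  have hXs : ∑ χ ∈ hXfin.toFinset, (χ : G → ℂ) 1 * conj ((χ : G → ℂ) x) =
      (D.δ : ℂ) * (ψ₀ : G → ℂ) 1 := by
    rw [D.hrel ψ₀ hψ₀ 1 one_reg47, finsum_mem_eq_finite_toFinset_sum _ hXfin]
    apply Finset.sum_congr rfl
    intro χ hχ
    rw [D.hX χ (hXfin.mem_toFinset.mp hχ) x hx hx1, map_intCast, mul_comm]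
  -- the `Y` part
  have hYs : ∑ ψ ∈ hYfin.toFinset, (ψ : G → ℂ) 1 * conj ((ψ : G → ℂ) x) =
      (ψ₀ : G → ℂ) 1 * conj (∑ ψ ∈ hYfin.toFinset, (ψ : G → ℂ) x) := by
    rw [map_sum, Finset.mul_sum]
    apply Finset.sum_congr rfl
    intro ψ hψ
    rw [Y_one_eq47 P D ψ ψ₀ (hYfin.mem_toFinset.mp hψ) hψ₀]
  rw [hZ0, hXs, hYs, zero_add] at hco
  have hne : (ψ₀ : G → ℂ) 1 ≠ 0 := Helper79.irr_one_ne_zero ψ₀
  have h1 : conj (∑ ψ ∈ hYfin.toFinset, (ψ : G → ℂ) x) = -(D.δ : ℂ) := by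
    apply mul_left_cancel₀ hne
    linear_combination hco
  rw [finsum_mem_eq_finite_toFinset_sum _ hYfin]
  have h2 := congrArg conj h1
  rw [Complex.conj_conj, map_neg, map_intCast] at h2
  exact h2

end Cfsg.Agent.Helper47.B43
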