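import Cfsg.Agent.Helper47.B43.GL4

/-!
# Brauer 1943, layer L3, piece (GL5) (helper47 for helper16, board #7095)

The degrees of the members of `X` and of `Y` divide `|N_G(P) : C_G(P)| · |G : N_G(P)|`
(integrality of the central characters at a generator of `P`).
-/

set_option autoImplicit false
set_option linter.unusedSectionVars false
set_option linter.style.haveILetI false

namespace Cfsg.Agent.Helper47.B43

open Cfsg Cfsg.Agent.Helper16 Cfsg.Agent.Helper16.DefOne Cfsg.Agent.Helper82.DefOne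
  Cfsg.Agent.Helper77.DefOne Cfsg.Agent.Helper16.Brauer43
open scoped ComplexConjugate

universe u

variable {G : Type u} [Group G] [Fintype G] {p : ℕ} [Fact p.Prime] (P : Sylow p G)
  [Fintype (P : Subgroup G)] (D : L0Data P)

/-- the index of the centralizer of a nontrivial element of `P` -/
theorem index_centralizer47 (hP : Nat.card P = p) (x : G) (hx : x ∈ (P : Subgroup G))
    (hx1 : x ≠ 1) :
    (Subgroup.centralizer ({x} : Set G)).index = (cen P).relIndex (nor P) * (nor P).index := by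
  rw [Helper25.NPCSimple.centralizer_singleton_eq P hP x hx hx1]
  have hle : cen P ≤ nor P := Subgroup.le_normalizer
  exact (Subgroup.relIndex_mul_index hle).symm

/-- (GL5), `X` part -/
theorem deg_dvd_X (hP : Nat.card P = p) (hC : cen P = (P : Subgroup G)) (χ : IrrCharacter G)
    (hχ : χ ∈ D.X) :
    charDegree (χ : G → ℂ) ∣ (cen P).relIndex (nor P) * (nor P).index := by
  have hp : p.Prime := Fact.out
  obtain ⟨x₀, hx₀, hx₀p⟩ := Helper48.DefOneGR.exists_gen P hP
  have hx₀1 : x₀ ≠ 1 := by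
    intro h
    rw [h, orderOf_one] at hx₀p
    exact hp.one_lt.ne hx₀p
  have hint := Helper78.isIntegral_centralChar χ.2 x₀
  unfold centralChar at hint
  rw [index_centralizer47 P hP x₀ hx₀ hx₀1, D.hX χ hχ x₀ hx₀ hx₀1, Helper79.irr_one χ] at hint
  have hd0 : charDegree (χ : G → ℂ) ≠ 0 := (Helper79.irr_charDegree_pos χ).ne'
  have h2 : ((((((cen P).relIndex (nor P) * (nor P).index : ℕ) : ℤ) * D.ε χ : ℤ) : ℂ)) /
      ((charDegree (χ : G → ℂ) : ℕ) : ℂ) =
      (((cen P).relIndex (nor P) * (nor P).index : ℕ) : ℂ) * (D.ε χ : ℂ) /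
        ((charDegree (χ : G → ℂ) : ℕ) : ℂ) := by
    push_cast
    ring
  rw [← h2] at hint
  have h3 := Helper25.NPCSimple.int_dvd_of_isIntegral_div' hd0 hint
  have h4 : ((charDegree (χ : G → ℂ) : ℕ) : ℤ) ∣
      (((cen P).relIndex (nor P) * (nor P).index : ℕ) : ℤ) := by
    rcases D.hε χ with h | h
    · rw [h, mul_one] at h3
      exact h3
    · rw [h, mul_neg, mul_one, dvd_neg] at h3
      exact h3
  exact_mod_cast h4

/-- (GL5), `Y` part -/
theorem deg_dvd_Y (hP : Nat.card P = p) (hC : cen P = (P : Subgroup G)) (ψ : IrrCharacter G)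
    (hψ : ψ ∈ D.Y) :
    charDegree (ψ : G → ℂ) ∣ (cen P).relIndex (nor P) * (nor P).index := by
  classical
  have hp : p.Prime := Fact.out
  have hYfin : D.Y.Finite := Set.toFinite _
  obtain ⟨x₀, hx₀, hx₀p⟩ := Helper48.DefOneGR.exists_gen P hP
  have hx₀1 : x₀ ≠ 1 := by
    intro h
    rw [h, orderOf_one] at hx₀p
    exact hp.one_lt.ne hx₀p
  -- the sum of the central characters over `Y` is integral
  have hint : IsIntegral ℤ (∑ θ ∈ hYfin.toFinset, centralChar (θ : G → ℂ) x₀) :=
    IsIntegral.sum _ (fun θ _ => Helper78.isIntegral_centralChar θ.2 x₀)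
  have hsum : ∑ θ ∈ hYfin.toFinset, centralChar (θ : G → ℂ) x₀ =
      (((((cen P).relIndex (nor P) * (nor P).index : ℕ) : ℤ) * (-D.δ) : ℤ) : ℂ) /
        ((charDegree (ψ : G → ℂ) : ℕ) : ℂ) := by
    have h1 : ∀ θ ∈ hYfin.toFinset, centralChar (θ : G → ℂ) x₀ =
        (((cen P).relIndex (nor P) * (nor P).index : ℕ) : ℂ) /
          ((charDegree (ψ : G → ℂ) : ℕ) : ℂ) * (θ : G → ℂ) x₀ := by
      intro θ hθ
      unfold centralChar
      rw [index_centralizer47 P hP x₀ hx₀ hx₀1,
        Y_one_eq47 P D θ ψ (hYfin.mem_toFinset.mp hθ) hψ, Helper79.irr_one ψ]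
      ring
    rw [Finset.sum_congr rfl h1, ← Finset.mul_sum, ← finsum_mem_eq_finite_toFinset_sum _ hYfin,
      sum_Y_apply P D hP hC x₀ hx₀ hx₀1]
    push_cast
    ring
  rw [hsum] at hint
  have hd0 : charDegree (ψ : G → ℂ) ≠ 0 := (Helper79.irr_charDegree_pos ψ).ne'
  have h3 := Helper25.NPCSimple.int_dvd_of_isIntegral_div' hd0 hint
  have h4 : ((charDegree (ψ : G → ℂ) : ℕ) : ℤ) ∣
      (((cen P).relIndex (nor P) * (nor P).index : ℕ) : ℤ) := by
    rcases D.hδ with h | h
    · rw [h, mul_neg, mul_one, dvd_neg] at h3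
      exact h3
    · rw [h, neg_neg, mul_one] at h3
      exact h3
  exact_mod_cast h4

end Cfsg.Agent.Helper47.B43
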